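import Cfsg.Agent.H487.SchurMult
import Cfsg.Agent.S0892
import Cfsg.Agent.S2116
import Cfsg.Prelude.Def_Classification2
import Cfsg.Agent.Prune
set_option linter.all false
prune_inst 0x7f00000000000000000000000000000000000000000000000000000000000000000000000000000000000000000000000000000000000000000000000000000000000000000000000000000000000000003fffffffffffffffffffffffffffbeffbdffffffff
open scoped Cfsg.Agent.FastGrp

/-!
# The exponent of the kernel of a perfect central extension (helper878)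

`KerExp m T` : every perfect finite central extension of `T` has a kernel of exponent dividing `m`.
-/

set_option autoImplicit false

namespace Cfsg.Agent.H878

universe u v w

/-- Every finite perfect central extension of `T` has a kernel of exponent dividing `m`. -/
def KerExp (m : ℕ) (T : Type v) [Group T] : Prop :=
  ∀ (C : Type u) [Group C] [Finite C] (f : C →* T), Function.Surjective f → f.ker ≤ Subgroup.center C →
    commutator C = ⊤ → ∀ z ∈ f.ker, z ^ m = 1

theorem KerExp.congr {m : ℕ} {T : Type v} [Group T] {T' : Type w} [Group T'] (h : KerExp.{u} m T) (e : T' ≃* T) :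
    KerExp.{u} m T' := by
  intro C _ _ f hf hc hC z hz
  have hk : (e.toMonoidHom.comp f).ker = f.ker := by
    ext x
    simp [MonoidHom.mem_ker]
  refine h C (e.toMonoidHom.comp f) (e.surjective.comp hf) (by rw [hk]; exact hc) hC z ?_
  rw [hk]; exact hz

theorem KerExp.of_nonempty {m : ℕ} {T : Type v} [Group T] {T' : Type w} [Group T'] (h : KerExp.{u} m T)
    (e : Nonempty (T' ≃* T)) : KerExp.{u} m T' := h.congr e.some

theorem kerExp_of_mult {T : Type v} [Group T] {A : Type w} [CommGroup A] (h : Cfsg.HasSchurMultiplier T A) {m : ℕ}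
    (hA : ∀ a : A, a ^ m = 1) : KerExp.{u} m T := by
  intro C _ _ f hf hc hC z hz
  obtain ⟨π, hπ⟩ := H487.HasSchurMultiplier.exists_surj_ker h (D := C) (τ := f) ⟨hf, hc, by rw [hC]; exact le_top⟩
  obtain ⟨a, ha⟩ := hπ ⟨z, hz⟩
  have h1 : (⟨z, hz⟩ : f.ker) ^ m = 1 := by rw [← ha, ← map_pow, hA, map_one]
  exact congrArg Subtype.val h1

theorem kerExp_of_cyc {T : Type v} [Group T] {n : ℕ} (h : Cfsg.HasCyclicSchurMultiplier T n) :
    KerExp.{u} n T := by
  refine kerExp_of_mult h fun a => ?_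
  apply Multiplicative.toAdd.injective
  rw [toAdd_pow, toAdd_one, nsmul_eq_mul, ZMod.natCast_self, zero_mul]

/-- The alternative needed for an odd prime `r`. -/
def Away (r : ℕ) (T : Type v) [Group T] : Prop := ∃ m, KerExp.{u} m T ∧ ¬ r ∣ m

theorem Away.congr {r : ℕ} {T : Type v} [Group T] {T' : Type w} [Group T'] (h : Away.{u} r T) (e : T' ≃* T) :
    Away.{u} r T' := by
  obtain ⟨m, hm, hr⟩ := h
  exact ⟨m, hm.congr e, hr⟩

theorem Away.of_nonempty {r : ℕ} {T : Type v} [Group T] {T' : Type w} [Group T'] (h : Away.{u} r T)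
    (e : Nonempty (T' ≃* T)) : Away.{u} r T' := h.congr e.some

theorem not_dvd_two {r : ℕ} (hr : r.Prime) (hodd : Odd r) {m : ℕ} (hm : m ∣ 4) : ¬ r ∣ m := by
  intro h
  have h1 : r ∣ 2 ^ 2 := h.trans hm
  have h2 := (Nat.prime_dvd_prime_iff_eq hr Nat.prime_two).1 (hr.dvd_of_dvd_pow h1)
  rw [h2] at hodd
  exact absurd hodd (by decide)

theorem away_cyc {r : ℕ} (hr : r.Prime) (hodd : Odd r) {T : Type v} [Group T] {n : ℕ}
    (h : Cfsg.HasCyclicSchurMultiplier T n) (hn : n ∣ 4) : Away.{u} r T :=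
  ⟨n, kerExp_of_cyc h, not_dvd_two hr hodd hn⟩

theorem away_cyc' {r : ℕ} {T : Type v} [Group T] {n : ℕ}
    (h : Cfsg.HasCyclicSchurMultiplier T n) (hn : ¬ r ∣ n) : Away.{u} r T :=
  ⟨n, kerExp_of_cyc h, hn⟩

theorem not_dvd_six {r : ℕ} (hr : r.Prime) (hodd : Odd r) (h3 : r ≠ 3) {m : ℕ} (hm : m ∣ 12) : ¬ r ∣ m := by
  intro h
  have h1 : r ∣ 2 ^ 2 * 3 := h.trans hm
  rcases (hr.dvd_mul).1 h1 with h2 | h2
  · have h3 := (Nat.prime_dvd_prime_iff_eq hr Nat.prime_two).1 (hr.dvd_of_dvd_pow h2)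
    rw [h3] at hodd
    exact absurd hodd (by decide)
  · exact h3 ((Nat.prime_dvd_prime_iff_eq hr Nat.prime_three).1 h2)

theorem away_cyc12 {r : ℕ} (hr : r.Prime) (hodd : Odd r) (h3 : r ≠ 3) {T : Type v} [Group T] {n : ℕ}
    (h : Cfsg.HasCyclicSchurMultiplier T n) (hn : n ∣ 12) : Away.{u} r T :=
  ⟨n, kerExp_of_cyc h, not_dvd_six hr hodd h3 hn⟩

theorem away_alt {r : ℕ} (hr : r.Prime) (hodd : Odd r) {n : ℕ} (hn : 5 ≤ n)
    (h38 : r = 3 → 3 ^ 8 ∣ Nat.card (alternatingGroup (Fin n))) : Away.{u} r (alternatingGroup (Fin n)) := by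
  by_cases h67 : n = 6 ∨ n = 7
  · have h3 : r ≠ 3 := by
      rintro rfl
      have h1 := h38 rfl
      have hnt : Nontrivial (Fin n) := Fin.nontrivial_iff_two_le.2 (by omega)
      have h2 := nat_card_alternatingGroup (α := Fin n)
      rw [Nat.card_fin] at h2
      rw [h2] at h1
      rcases h67 with rfl | rfl
      · revert h1; decide
      · revert h1; decide
    exact away_cyc12 hr hodd h3 (S2116.result n h67) (by decide)
  · push Not at h67
    refine ⟨2, ?_, not_dvd_two hr hodd (by decide)⟩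
    intro C _ _ f hf hc hC z hz
    have h1 := S0892.result n (by omega) h67.1 h67.2 f.ker hc (by rw [hC]; exact le_top)
      (QuotientGroup.quotientKerEquivOfSurjective f hf)
    have h2 : (⟨z, hz⟩ : f.ker) ^ Nat.card f.ker = 1 := pow_card_eq_one'
    have h3 : 0 < Nat.card f.ker := Nat.card_pos
    have h4 : Nat.card f.ker ∣ 2 := by
      rcases (show Nat.card f.ker = 1 ∨ Nat.card f.ker = 2 by omega) with h | h <;> rw [h] <;> decide
    obtain ⟨j, hj⟩ := h4
    have h5 := congrArg Subtype.val h2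
    change z ^ Nat.card f.ker = 1 at h5
    rw [hj, pow_mul, h5, one_pow]

end Cfsg.Agent.H878
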