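import Cfsg.Agent.S0243
import Cfsg.Agent.S0280
import Cfsg.Agent.Prune
set_option linter.all false
open scoped Cfsg.Agent.FastGrp

/-!
# The `p`-part of the order of `PSL_n(q)` and `PSU_n(q)`, and numerical lemmas (helper878)
-/

set_option autoImplicit false

namespace Cfsg.Agent.H878

open Cfsg Finset

theorem prod_pow_sub {q n : ℕ} :
    ∏ i : Fin n, (q ^ n - q ^ (i : ℕ)) = q ^ (n * (n - 1) / 2) * ∏ i : Fin n, (q ^ (n - (i : ℕ)) - 1) := by
  have h1 : ∀ i : Fin n, q ^ n - q ^ (i : ℕ) = q ^ (i : ℕ) * (q ^ (n - (i : ℕ)) - 1) := by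
    intro i
    rw [Nat.mul_sub, mul_one, ← pow_add]
    congr 2
    have := i.2
    omega
  rw [Finset.prod_congr rfl fun i _ => h1 i, Finset.prod_mul_distrib]
  congr 1
  rw [Finset.prod_pow_eq_pow_sum, Fin.sum_univ_eq_sum_range (fun i => i), Finset.sum_range_id]

theorem coprime_pow_sub_one {p q m : ℕ} (hp : p.Prime) (hpq : p ∣ q) (hq : 1 ≤ q) (hm : 1 ≤ m) :
    ¬ p ∣ q ^ m - 1 := by
  intro h
  have h1 : p ∣ q ^ m := dvd_pow hpq (by omega)
  have h2 : 1 ≤ q ^ m := Nat.one_le_pow _ _ hq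
  have h3 : p ∣ q ^ m - (q ^ m - 1) := Nat.dvd_sub h1 h
  have h4 : q ^ m - (q ^ m - 1) = 1 := by omega
  rw [h4] at h3
  exact hp.one_lt.ne' (Nat.dvd_one.1 h3)

theorem coprime_pow_add_one {p q m : ℕ} (hp : p.Prime) (hpq : p ∣ q) (hm : 1 ≤ m) :
    ¬ p ∣ q ^ m + 1 := by
  intro h
  have h1 : p ∣ q ^ m := dvd_pow hpq (by omega)
  have h3 : p ∣ 1 := (Nat.dvd_add_right h1).1 h
  exact hp.one_lt.ne' (Nat.dvd_one.1 h3)

theorem prime_not_dvd_prod {ι : Type*} {p : ℕ} (hp : p.Prime) (s : Finset ι) (f : ι → ℕ)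
    (h : ∀ i ∈ s, ¬ p ∣ f i) : ¬ p ∣ ∏ i ∈ s, f i := by
  rw [hp.prime.dvd_finset_prod_iff]
  push Not
  exact h

/-- If `A * X = Q * M` with `p ∤ A`, `p ∤ M`, then `X` and `Q` have the same `p`-part. -/
theorem ppart_iff {p A X Q M : ℕ} (hp : p.Prime) (hA : ¬ p ∣ A) (hM : ¬ p ∣ M) (h : A * X = Q * M) (j : ℕ) :
    p ^ j ∣ X ↔ p ^ j ∣ Q := by
  have cA : Nat.Coprime (p ^ j) A := Nat.Coprime.pow_left _ ((Nat.Prime.coprime_iff_not_dvd hp).2 hA)
  have cM : Nat.Coprime (p ^ j) M := Nat.Coprime.pow_left _ ((Nat.Prime.coprime_iff_not_dvd hp).2 hM)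
  constructor
  · intro hX
    have h1 : p ^ j ∣ Q * M := by rw [← h]; exact hX.mul_left _
    exact cM.dvd_of_dvd_mul_right h1
  · intro hQ
    have h1 : p ^ j ∣ A * X := by rw [h]; exact hQ.mul_right _
    exact cA.dvd_of_dvd_mul_left h1

theorem ppart_psl {F : Type*} [Field F] [Fintype F] {p q : ℕ} (hp : p.Prime) (hF : Fintype.card F = q) (hpq : p ∣ q)
    {n : ℕ} (hn : 2 ≤ n) (j : ℕ) :
    p ^ j ∣ Nat.card (Matrix.ProjectiveSpecialLinearGroup (Fin n) F) ↔ p ^ j ∣ q ^ (n * (n - 1) / 2) := by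
  have hq : 1 < q := by rw [← hF]; exact Fintype.one_lt_card
  have hS := S0243.result hF n hn
  rw [prod_pow_sub, ← mul_assoc] at hS
  refine ppart_iff hp ?_ ?_ hS j
  · intro h
    have h1 := coprime_pow_sub_one (m := 1) hp hpq hq.le le_rfl
    rw [pow_one] at h1
    rcases (hp.dvd_mul).1 h with h2 | h2
    · exact h1 (h2.trans (Nat.gcd_dvd_right _ _))
    · exact h1 h2
  · apply prime_not_dvd_prod hp
    intro i _
    exact coprime_pow_sub_one hp hpq hq.le (by have := i.2; omega)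

theorem ppart_psu {F : Type*} [Field F] [Fintype F] {p q : ℕ} (hp : p.Prime) (hF : Fintype.card F = q ^ 2)
    (hpq : p ∣ q) {n : ℕ} (hn : 2 ≤ n) (j : ℕ) :
    p ^ j ∣ Nat.card (PSU n F q) ↔ p ^ j ∣ q ^ (n * (n - 1) / 2) := by
  have hq : 1 < q := by
    have h1 : 1 < Fintype.card F := Fintype.one_lt_card
    rw [hF] at h1
    by_contra hle
    have : q = 0 ∨ q = 1 := by omega
    rcases this with rfl | rfl <;> simp at h1
  have hS := S0280.result hF n hn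
  rw [← mul_assoc] at hS
  refine ppart_iff hp ?_ ?_ hS j
  · intro h
    have h1 := coprime_pow_add_one (m := 1) hp hpq le_rfl
    rw [pow_one] at h1
    rcases (hp.dvd_mul).1 h with h2 | h2
    · exact h1 (h2.trans (Nat.gcd_dvd_right _ _))
    · exact h1 h2
  · apply prime_not_dvd_prod hp
    intro i _
    split_ifs
    · exact coprime_pow_add_one hp hpq (by omega)
    · exact coprime_pow_sub_one hp hpq hq.le (by omega)

theorem tri_mono {n d : ℕ} (h : n ≤ d) : n * (n - 1) / 2 ≤ d * (d - 1) / 2 :=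
  Nat.div_le_div_right (Nat.mul_le_mul h (by omega))

theorem tri_lt {n d : ℕ} (hn : 1 ≤ n) (h : n < d) : n * (n - 1) / 2 < d * (d - 1) / 2 := by
  have h1 : (n + 1) * n / 2 ≤ d * (d - 1) / 2 := by
    have := tri_mono (show n + 1 ≤ d by omega)
    rwa [Nat.add_sub_cancel] at this
  have h2 : (n + 1) * n = n * (n - 1) + 2 * n := by
    obtain ⟨m, rfl⟩ : ∃ m, n = m + 1 := ⟨n - 1, by omega⟩
    rw [Nat.add_sub_cancel]; ring
  rw [h2, Nat.add_mul_div_left _ _ (by norm_num)] at h1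
  omega

theorem num_eq {e f n d : ℕ} (he : 1 ≤ e) (hef : e ≤ f) (hn : 2 ≤ n) (hnd : n ≤ d)
    (h : f * (d * (d - 1) / 2) ≤ e * (n * (n - 1) / 2)) : f = e ∧ d = n := by
  have hT : 0 < n * (n - 1) / 2 := by
    have := tri_lt (n := 1) (d := n) le_rfl (by omega)
    omega
  have h1 := tri_mono hnd
  have hd : d = n := by
    by_contra hne
    have h2 := tri_lt (n := n) (d := d) (by omega) (by omega)
    have h3 : e * (n * (n - 1) / 2) < f * (d * (d - 1) / 2) := by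
      calc e * (n * (n - 1) / 2) < e * (d * (d - 1) / 2) := Nat.mul_lt_mul_of_pos_left h2 (by omega)
        _ ≤ f * (d * (d - 1) / 2) := Nat.mul_le_mul_right _ hef
    omega
  subst hd
  refine ⟨le_antisymm (Nat.le_of_mul_le_mul_right h hT) hef, rfl⟩

/-- Order of `p` modulo the prime `r`. -/
theorem dvd_of_min {r p e m : ℕ} (hr : r.Prime) (hp : p.Prime) (he : 0 < e) (hdvd : r ∣ p ^ e - 1)
    (hmin : ∀ d, 0 < d → d < e → ¬ r ∣ p ^ d - 1) (hm : r ∣ p ^ m - 1) : e ∣ m := by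
  have hiff : ∀ j, r ∣ p ^ j - 1 ↔ ((p : ℕ) : ZMod r) ^ j = 1 := by
    intro j
    have h1 : 1 ≤ p ^ j := Nat.one_le_pow _ _ hp.pos
    rw [← ZMod.natCast_eq_zero_iff, Nat.cast_sub h1, Nat.cast_pow, Nat.cast_one, sub_eq_zero]
  have hfin : IsOfFinOrder ((p : ℕ) : ZMod r) := isOfFinOrder_iff_pow_eq_one.2 ⟨e, he, (hiff e).1 hdvd⟩
  have h1 : orderOf ((p : ℕ) : ZMod r) = e := by
    apply le_antisymm
    · exact orderOf_le_of_pow_eq_one he ((hiff e).1 hdvd)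
    · by_contra hlt
      push Not at hlt
      exact hmin _ hfin.orderOf_pos hlt ((hiff _).2 (pow_orderOf_eq_one _))
  rw [← h1]
  exact orderOf_dvd_of_pow_eq_one ((hiff m).1 hm)

/-- `e` odd and minimal, `r` odd: `r` does not divide `p ^ f + 1`. -/
theorem not_dvd_pow_add_one {r p e f : ℕ} (hr : r.Prime) (hodd : Odd r) (hp : p.Prime) (he : Odd e)
    (hdvd : r ∣ p ^ e - 1) (hmin : ∀ d, 0 < d → d < e → ¬ r ∣ p ^ d - 1) : ¬ r ∣ p ^ f + 1 := by
  intro h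
  have h1 : 1 ≤ p ^ f := Nat.one_le_pow _ _ hp.pos
  have h2 : r ∣ p ^ (2 * f) - 1 := by
    have h3 : p ^ (2 * f) - 1 = (p ^ f + 1) * (p ^ f - 1) := by
      rw [two_mul, pow_add, ← Nat.sq_sub_sq (p ^ f) 1] 
      rw [sq, one_pow]
    rw [h3]
    exact h.mul_right _
  have h4 := dvd_of_min hr hp he.pos hdvd hmin h2
  have h5 : e ∣ f := (Nat.Coprime.dvd_of_dvd_mul_left (Nat.coprime_two_right.2 he) h4)
  obtain ⟨j, rfl⟩ := h5
  have h6 : r ∣ p ^ (e * j) - 1 := by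
    rw [pow_mul]
    exact hdvd.trans (by simpa using Nat.sub_dvd_pow_sub_pow (p ^ e) 1 j)
  have h7 : r ∣ (p ^ (e * j) + 1) - (p ^ (e * j) - 1) := Nat.dvd_sub h h6
  have h8 : (p ^ (e * j) + 1) - (p ^ (e * j) - 1) = 2 := by omega
  rw [h8] at h7
  have h9 := (Nat.prime_dvd_prime_iff_eq hr Nat.prime_two).1 h7
  rw [h9] at hodd
  exact absurd hodd (by decide)

theorem two_pow_gt {n : ℕ} (hn : 5 ≤ n) : n + 1 < 2 ^ (n - 2) * 2 ∧ n < 2 ^ (n - 2) := by
  obtain ⟨m, rfl⟩ : ∃ m, n = m + 5 := ⟨n - 5, by omega⟩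
  have h : ∀ m, m + 5 < 2 ^ (m + 3) := by
    intro m
    induction m with
    | zero => norm_num
    | succ m ih => rw [show m + 1 + 3 = (m + 3) + 1 by ring, pow_succ]; omega
  have h1 := h m
  have h2 : m + 5 - 2 = m + 3 := by omega
  rw [h2]
  omega

end Cfsg.Agent.H878
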